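import Cfsg.Agent.CosetEnum.Suz.Table

/-! Generated: checks of the table and of the orbit labels. -/

set_option autoImplicit false
set_option maxRecDepth 100000

namespace CfsgLib.CosetEnum.Suz.Tab

open CfsgLib.CosetEnum

theorem points0 : allFrom (checkPoint (fun x => x) 7 relWords G24.TF G24.parF 1782) 0 256 = true := by
  decide +kernel

theorem points256 : allFrom (checkPoint (fun x => x) 7 relWords G24.TF G24.parF 1782) 256 256 = true := by
  decide +kernel

theorem points512 : allFrom (checkPoint (fun x => x) 7 relWords G24.TF G24.parF 1782) 512 256 = true := by
  decide +kernel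

theorem points768 : allFrom (checkPoint (fun x => x) 7 relWords G24.TF G24.parF 1782) 768 256 = true := by
  decide +kernel

theorem points1024 : allFrom (checkPoint (fun x => x) 7 relWords G24.TF G24.parF 1782) 1024 256 = true := by
  decide +kernel

theorem points1280 : allFrom (checkPoint (fun x => x) 7 relWords G24.TF G24.parF 1782) 1280 256 = true := by
  decide +kernel

theorem points1536 : allFrom (checkPoint (fun x => x) 7 relWords G24.TF G24.parF 1782) 1536 246 = true := by
  decide +kernel

theorem points : ∀ i < perm.n, (checkPoint (fun x => x) 7 relWords G24.TF G24.parF 1782) i = true :=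
  RangeChecked.all (RangeChecked.app 246 1782 (RangeChecked.app 256 1536 (RangeChecked.app 256 1280 (RangeChecked.app 256 1024 (RangeChecked.app 256 768 (RangeChecked.app 256 512 (RangeChecked.app 256 256 RangeChecked.zero points0 rfl) points256 rfl) points512 rfl) points768 rfl) points1024 rfl) points1280 rfl) points1536 rfl)

end CfsgLib.CosetEnum.Suz.Tab
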