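import Cfsg.Agent.CosetEnum.Present
import Cfsg.Agent.CosetEnum.Suz.TableChecks
import Cfsg.Agent.CosetEnum.Suz.G24.Upper
import Cfsg.Agent.CosetEnum.Suz.J2.Upper
import Cfsg.Agent.CosetEnum.Suz.PGL29.Upper
import Cfsg.Agent.CosetEnum.Suz.C2.Upper
import Cfsg.Prelude.Def_Spor_Suz
import Cfsg.Agent.Eq.Def_Spor_Suz

/-!
The presented Suzuki group: letters, the nested subgroups generated by initial segments of the
generators, upper bounds for their orders, and the permutation representation on 1782 points.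
-/

set_option autoImplicit false

namespace CfsgLib.CosetEnum.Suz

open Cfsg.Spor

/-- generator numbers -/
def enc : Cfsg.Spor.Suz.Gen → ℕ
  | .a => 0
  | .b => 1
  | .c => 2
  | .d => 3
  | .e => 4
  | .f => 5
  | .g => 6

/-- the generator with a given number -/
def dec : ℕ → Cfsg.Spor.Suz.Gen
  | 0 => .a
  | 1 => .b
  | 2 => .c
  | 3 => .d
  | 4 => .e
  | 5 => .f
  | _ => .g

theorem enc_lt (x : Cfsg.Spor.Suz.Gen) : enc x < 7 := by cases x <;> decide

theorem dec_enc (x : Cfsg.Spor.Suz.Gen) : dec (enc x) = x := by cases x <;> rfl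

abbrev relList : List (FreeGroup Cfsg.Spor.Suz.Gen) :=
  coxList Cfsg.Spor.Suz.edges Cfsg.Spor.Suz.extra

theorem rels_eq : coxRelators Cfsg.Spor.Suz.edges ∪ {r | r ∈ Cfsg.Spor.Suz.extra} =
    {r | r ∈ relList} :=
  coxList_set _ _

/-- the value of a letter in the presented group -/
def gen (x : ℕ) : Cfsg.Spor.Suz := PresentedGroup.of (dec x)

theorem gen_sq (x : ℕ) : gen x * gen x = 1 := by
  have hmem : dec x ∈ coxNodes Cfsg.Spor.Suz.edges := by cases dec x <;> decide
  have h : PresentedGroup.mk (coxRelators Cfsg.Spor.Suz.edges ∪ {r | r ∈ Cfsg.Spor.Suz.extra})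
      ((FreeGroup.of (dec x) * FreeGroup.of (dec x)) ^
        coxLabel Cfsg.Spor.Suz.edges (dec x) (dec x)) = 1 :=
    PresentedGroup.one_of_mem (Or.inl ⟨_, hmem, _, hmem, rfl⟩)
  simpa [coxLabel, gen, PresentedGroup.of] using h

theorem gen_inv (x : ℕ) : (gen x)⁻¹ = gen x := inv_eq_of_mul_eq_one_right (gen_sq x)

/-- the letters below `m`, the others mean 1 -/
noncomputable def gl (m : ℕ) : ℕ → Cfsg.Spor.Suz := letterVal m gen

theorem gl_inv (m : ℕ) (x : ℕ) : gl m x = (gl m x)⁻¹ :=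
  letterVal_inv m gen (fun y => y) (fun y hy => ⟨hy, (gen_inv y).symm⟩) (fun _ hy => hy) x

/-- the subgroup generated by the first `m` generators -/
def sub (m : ℕ) : Subgroup Cfsg.Spor.Suz := Subgroup.closure {z | ∃ x < m, gen x = z}

theorem closure_gl (m : ℕ) : Subgroup.closure {z | ∃ x < m, gl m x = z} = sub m := by
  refine congrArg Subgroup.closure (Set.ext fun z => ?_)
  constructor <;> rintro ⟨x, hx, rfl⟩ <;> exact ⟨x, hx, by rw [gl, letterVal_lt gen hx]⟩

theorem sub_seven : sub 7 = ⊤ := by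
  rw [eq_top_iff, ← PresentedGroup.closure_range_of, Subgroup.closure_le]
  rintro _ ⟨x, rfl⟩
  exact Subgroup.subset_closure ⟨enc x, enc_lt x, by rw [gen, dec_enc]⟩

theorem sub_mono {m m' : ℕ} (h : m ≤ m') : sub m ≤ sub m' :=
  Subgroup.closure_mono fun _ ⟨x, hx, e⟩ => ⟨x, lt_of_lt_of_le hx h, e⟩

theorem relWords_from_list :
    wordsFrom (fun y => y) (relList.map (encWord enc fun y => y)) Tab.relWords = true := by
  decide +kernel

theorem gword_relWords : ∀ w ∈ Tab.relWords, gword (gl 7) w = 1 := by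
  refine gword_of_wordsFrom (gl 7) (fun y => y) (gl_inv 7) relWords_from_list ?_
  refine gword_relWord relList _ rels_eq enc (fun y => y) (MonoidHom.id _) (gl 7) ?_ ?_ <;> intro x
  · rw [gl, letterVal_lt gen (enc_lt x), gen, dec_enc]; rfl
  · rw [gl, letterVal_lt gen (enc_lt x), ← gen_inv, gen, dec_enc]; rfl

/-- the conditions on the words of a certificate for `sub m` over `sub m'` -/
def wordsOK (C : CertData) (m m' : ℕ) : Bool :=
  wordsFrom (fun y => y) Tab.relWords (C.words.take C.nr) &&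
    (C.words.take C.nr).all (fun w => w.all (fun x => x.blt m)) &&
    (C.words.drop C.nr).all (fun w => w.all (fun x => x.blt m'))

theorem hyps {C : CertData} {m m' : ℕ} (h : wordsOK C m m' = true) (hm : m ≤ 7) (hm' : m' ≤ m) :
    (∀ (k : ℕ) (w : List ℕ), C.words[k]? = some w → k < C.nr → gword (gl m) w = 1) ∧
      (∀ (k : ℕ) (w : List ℕ), C.words[k]? = some w → gword (gl m) w ∈ sub m') := by
  simp only [wordsOK, Bool.and_eq_true, List.all_eq_true, Nat.blt, Nat.ble_eq] at h
  obtain ⟨⟨h1, h2⟩, h3⟩ := h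
  have hrel : ∀ (k : ℕ) (w : List ℕ), C.words[k]? = some w → k < C.nr → gword (gl m) w = 1 := by
    intro k w hk hlt
    have hw : w ∈ C.words.take C.nr :=
      List.mem_of_getElem? (i := k) (by rw [List.getElem?_take, if_pos hlt, hk])
    rw [← gword_of_wordsFrom (gl 7) (fun y => y) (gl_inv 7) h1 gword_relWords w hw]
    exact gword_congr _ _ fun x hx => by
      have hxm : x < m := h2 w hw x hx
      rw [gl, gl, letterVal_lt gen hxm, letterVal_lt gen (lt_of_lt_of_le hxm hm)]
  refine ⟨hrel, fun k w hk => ?_⟩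
  by_cases hlt : k < C.nr
  · rw [hrel k w hk hlt]; exact one_mem _
  · have hw : w ∈ C.words.drop C.nr :=
      List.mem_of_getElem? (i := k - C.nr)
        (by rw [List.getElem?_drop, show C.nr + (k - C.nr) = k by omega, hk])
    refine gword_mem _ _ fun x hx => ?_
    have hxm : x < m' := h3 w hw x hx
    rw [gl, letterVal_lt gen (lt_of_lt_of_le hxm hm')]
    exact Subgroup.subset_closure ⟨x, hxm, rfl⟩

theorem wordsOK_C2 : wordsOK C2.cert 4 1 = true := by decide +kernel
theorem wordsOK_PGL29 : wordsOK PGL29.cert 5 4 = true := by decide +kernel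
theorem wordsOK_J2 : wordsOK J2.cert 6 5 = true := by decide +kernel
theorem wordsOK_G24 : wordsOK G24.cert 7 6 = true := by decide +kernel

theorem card_step {m m' b c n : ℕ} (hm' : m' ≤ m) (h : Nat.card (sub m') ≤ b ∧ Nat.card (sub m') ≠ 0)
    (hr : (sub m').relIndex (sub m) ≤ n ∧ (sub m').relIndex (sub m) ≠ 0) (hc : n * b = c) :
    Nat.card (sub m) ≤ c ∧ Nat.card (sub m) ≠ 0 := by
  have := Subgroup.relIndex_mul_relIndex ⊥ (sub m') (sub m) bot_le (sub_mono hm')
  rw [Subgroup.relIndex_bot_left, Subgroup.relIndex_bot_left] at this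
  rw [← this, ← hc]
  exact ⟨(Nat.mul_le_mul h.1 hr.1).trans (le_of_eq (Nat.mul_comm _ _)), Nat.mul_ne_zero h.2 hr.2⟩

theorem card_sub_one : Nat.card (sub 1) ≤ 2 ∧ Nat.card (sub 1) ≠ 0 := by
  have : sub 1 = Subgroup.zpowers (gen 0) := by
    rw [Subgroup.zpowers_eq_closure, sub]
    exact congrArg Subgroup.closure (Set.ext fun z =>
      ⟨fun ⟨x, hx, e⟩ => by rw [Nat.lt_one_iff.1 hx] at e; exact e.symm,
        fun e => ⟨0, Nat.one_pos, e.symm⟩⟩)
  rw [this, Nat.card_zpowers]
  have hd : orderOf (gen 0) ∣ 2 := orderOf_dvd_of_pow_eq_one (by rw [pow_two, gen_sq])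
  exact ⟨Nat.le_of_dvd (by norm_num) hd, fun h0 => by rw [h0] at hd; norm_num at hd⟩

theorem n_C2 : C2.cert.n = 1080 := rfl
theorem n_PGL29 : PGL29.cert.n = 280 := rfl
theorem n_J2 : J2.cert.n = 416 := rfl
theorem n_G24 : G24.cert.n = 1782 := rfl

theorem card_sub_four : Nat.card (sub 4) ≤ 2160 ∧ Nat.card (sub 4) ≠ 0 :=
  card_step (m' := 1) (n := 1080) (by omega) card_sub_one
    (closure_gl 4 ▸ n_C2 ▸ relIndex_le C2.facts C2.n_pos C2.node_zero C2.rows (sub 1) (gl 4)
      (gl_inv 4) (hyps wordsOK_C2 (by omega) (by omega)).1 (hyps wordsOK_C2 (by omega) (by omega)).2)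
    (by norm_num)

theorem card_sub_five : Nat.card (sub 5) ≤ 604800 ∧ Nat.card (sub 5) ≠ 0 :=
  card_step (m' := 4) (n := 280) (by omega) card_sub_four
    (closure_gl 5 ▸ n_PGL29 ▸ relIndex_le PGL29.facts PGL29.n_pos PGL29.node_zero PGL29.rows (sub 4)
      (gl 5) (gl_inv 5) (hyps wordsOK_PGL29 (by omega) (by omega)).1
      (hyps wordsOK_PGL29 (by omega) (by omega)).2)
    (by norm_num)

theorem card_sub_six : Nat.card (sub 6) ≤ 251596800 ∧ Nat.card (sub 6) ≠ 0 :=
  card_step (m' := 5) (n := 416) (by omega) card_sub_five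
    (closure_gl 6 ▸ n_J2 ▸ relIndex_le J2.facts J2.n_pos J2.node_zero J2.rows (sub 5) (gl 6)
      (gl_inv 6) (hyps wordsOK_J2 (by omega) (by omega)).1 (hyps wordsOK_J2 (by omega) (by omega)).2)
    (by norm_num)

theorem card_le : Nat.card Cfsg.Spor.Suz ≤ 448345497600 ∧ Nat.card Cfsg.Spor.Suz ≠ 0 := by
  have := card_step (m := 7) (m' := 6) (n := 1782) (c := 448345497600) (by omega) card_sub_six
    (closure_gl 7 ▸ n_G24 ▸ relIndex_le G24.facts G24.n_pos G24.node_zero G24.rows (sub 6) (gl 7)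
      (gl_inv 7) (hyps wordsOK_G24 (by omega) (by omega)).1 (hyps wordsOK_G24 (by omega) (by omega)).2)
    (by norm_num)
  rwa [sub_seven, Subgroup.card_top] at this

theorem perm_ok : Tab.perm.OK where
  hn := G24.n_pos
  letters := by decide +kernel
  point := Tab.points

theorem relWords_to_list :
    wordsFrom (fun y => y) Tab.relWords (relList.map (encWord enc fun y => y)) = true := by
  decide +kernel

/-- the action on 1782 points -/
noncomputable def pi : Cfsg.Spor.Suz →* Equiv.Perm (Fin Tab.perm.n) :=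
  permHom perm_ok relList _ rels_eq enc (fun x => enc_lt x) (fun _ hx => hx) relWords_to_list

theorem pi_gen {x : ℕ} (hx : x < 7) : pi (gen x) = perm_ok.sigma x := by
  exact (permHom_of perm_ok relList _ rels_eq enc _ _ _ (dec x)).trans
    (congrArg perm_ok.sigma (show enc (dec x) = x by interval_cases x <;> rfl))

theorem map_sub {m : ℕ} (hm : m ≤ 7) :
    (sub m).map pi = Subgroup.closure {a | ∃ x < m, perm_ok.sigma x = a} := by
  rw [sub, MonoidHom.map_closure]
  refine congrArg Subgroup.closure (Set.ext fun a => ?_)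
  constructor
  · rintro ⟨_, ⟨x, hx, rfl⟩, rfl⟩
    exact ⟨x, hx, (pi_gen (lt_of_lt_of_le hx hm)).symm⟩
  · rintro ⟨x, hx, rfl⟩
    exact ⟨gen x, ⟨x, hx, rfl⟩, pi_gen (lt_of_lt_of_le hx hm)⟩

end CfsgLib.CosetEnum.Suz
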