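import Cfsg.Agent.CosetEnum.Suz.Table

/-! Generated: checks of the orbit labels. -/

set_option autoImplicit false
set_option maxRecDepth 100000

namespace CfsgLib.CosetEnum.Suz.Tab

open CfsgLib.CosetEnum

theorem orbitSix0 : allFrom (checkOrbit G24.TF 7 wordsSix labSix rankSix oparSix ogenSix rootSix 1782) 0 891 = true := by
  decide +kernel

theorem orbitSix891 : allFrom (checkOrbit G24.TF 7 wordsSix labSix rankSix oparSix ogenSix rootSix 1782) 891 891 = true := by
  decide +kernel

theorem orbitSix : ∀ i < perm.n, (checkOrbit G24.TF 7 wordsSix labSix rankSix oparSix ogenSix rootSix 1782) i = true :=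
  RangeChecked.all (RangeChecked.app 891 1782 (RangeChecked.app 891 891 RangeChecked.zero orbitSix0 rfl) orbitSix891 rfl)

theorem orbitFive0 : allFrom (checkOrbit G24.TF 7 wordsFive labFive rankFive oparFive ogenFive rootFive 1782) 0 891 = true := by
  decide +kernel

theorem orbitFive891 : allFrom (checkOrbit G24.TF 7 wordsFive labFive rankFive oparFive ogenFive rootFive 1782) 891 891 = true := by
  decide +kernel

theorem orbitFive : ∀ i < perm.n, (checkOrbit G24.TF 7 wordsFive labFive rankFive oparFive ogenFive rootFive 1782) i = true :=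
  RangeChecked.all (RangeChecked.app 891 1782 (RangeChecked.app 891 891 RangeChecked.zero orbitFive0 rfl) orbitFive891 rfl)

theorem orbitLv30 : allFrom (checkOrbit G24.TF 7 wordsLv3 labLv3 rankLv3 oparLv3 ogenLv3 rootLv3 1782) 0 891 = true := by
  decide +kernel

theorem orbitLv3891 : allFrom (checkOrbit G24.TF 7 wordsLv3 labLv3 rankLv3 oparLv3 ogenLv3 rootLv3 1782) 891 891 = true := by
  decide +kernel

theorem orbitLv3 : ∀ i < perm.n, (checkOrbit G24.TF 7 wordsLv3 labLv3 rankLv3 oparLv3 ogenLv3 rootLv3 1782) i = true :=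
  RangeChecked.all (RangeChecked.app 891 1782 (RangeChecked.app 891 891 RangeChecked.zero orbitLv30 rfl) orbitLv3891 rfl)

theorem orbitLv40 : allFrom (checkOrbit G24.TF 7 wordsLv4 labLv4 rankLv4 oparLv4 ogenLv4 rootLv4 1782) 0 891 = true := by
  decide +kernel

theorem orbitLv4891 : allFrom (checkOrbit G24.TF 7 wordsLv4 labLv4 rankLv4 oparLv4 ogenLv4 rootLv4 1782) 891 891 = true := by
  decide +kernel

theorem orbitLv4 : ∀ i < perm.n, (checkOrbit G24.TF 7 wordsLv4 labLv4 rankLv4 oparLv4 ogenLv4 rootLv4 1782) i = true :=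
  RangeChecked.all (RangeChecked.app 891 1782 (RangeChecked.app 891 891 RangeChecked.zero orbitLv40 rfl) orbitLv4891 rfl)

theorem orbitLv50 : allFrom (checkOrbit G24.TF 7 wordsLv5 labLv5 rankLv5 oparLv5 ogenLv5 rootLv5 1782) 0 891 = true := by
  decide +kernel

theorem orbitLv5891 : allFrom (checkOrbit G24.TF 7 wordsLv5 labLv5 rankLv5 oparLv5 ogenLv5 rootLv5 1782) 891 891 = true := by
  decide +kernel

theorem orbitLv5 : ∀ i < perm.n, (checkOrbit G24.TF 7 wordsLv5 labLv5 rankLv5 oparLv5 ogenLv5 rootLv5 1782) i = true :=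
  RangeChecked.all (RangeChecked.app 891 1782 (RangeChecked.app 891 891 RangeChecked.zero orbitLv50 rfl) orbitLv5891 rfl)

end CfsgLib.CosetEnum.Suz.Tab
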