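import Cfsg.Agent.CosetEnum.Suz.Basic
import Cfsg.Agent.CosetEnum.Suz.OrbitChecks
import Cfsg.Agent.CosetEnum.Chain

/-!
The order of the presented Suzuki group and of its subgroups generated by initial segments of the
generators, and faithfulness of the action on 1782 points.
-/

set_option autoImplicit false

namespace CfsgLib.CosetEnum.Suz

/-- a point of the table -/
def pt (i : ℕ) (hi : i < 1782) : Fin Tab.perm.n := ⟨i, hi⟩

theorem pt_val (i : ℕ) (hi : i < 1782) : ((pt i hi : Fin Tab.perm.n) : ℕ) = i := rfl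

/-- the permutation group generated by some words -/
noncomputable def cl (S : List (List ℕ)) : Subgroup (Equiv.Perm (Fin Tab.perm.n)) :=
  Subgroup.closure {a | ∃ w ∈ S, gword perm_ok.sigma w = a}

theorem cl_letters (m : ℕ) (hm : m ≤ 7) :
    cl ((List.range m).map fun x => [x]) = (sub m).map pi := by
  rw [map_sub hm, cl]
  refine congrArg Subgroup.closure (Set.ext fun a => ?_)
  simp only [Set.mem_ofPred_eq, List.mem_map, List.mem_range]
  constructor
  · rintro ⟨_, ⟨x, hx, rfl⟩, rfl⟩
    exact ⟨x, hx, by simp [gword_cons, gword_nil]⟩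
  · rintro ⟨x, hx, rfl⟩
    exact ⟨[x], ⟨x, hx, rfl⟩, by simp [gword_cons, gword_nil]⟩

theorem cl_six : cl Tab.wordsSix = (sub 6).map pi := cl_letters 6 (by omega)

theorem cl_five : cl Tab.wordsFive = (sub 5).map pi := cl_letters 5 (by omega)

/-- all words used are in the generators -/
def smallWords (S : List (List ℕ)) : Bool := S.all fun w => w.all fun x => x.blt 7

theorem small {S : List (List ℕ)} (h : smallWords S = true) :
    ∀ w ∈ S, ∀ x ∈ w, x < Tab.perm.L := by
  intro w hw x hx
  have := List.all_eq_true.1 (List.all_eq_true.1 h w hw) x hx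
  simp only [Nat.blt, Nat.ble_eq] at this
  exact this

theorem gword_mem_range {S : List (List ℕ)} (h : smallWords S = true) :
    ∀ w ∈ S, gword perm_ok.sigma w ∈ pi.range := fun w hw =>
  ⟨gword gen w, by
    rw [gword_map]
    exact gword_congr _ _ fun x hx => pi_gen (small h w hw x hx)⟩

theorem small_six : smallWords Tab.wordsSix = true := by decide +kernel
theorem small_five : smallWords Tab.wordsFive = true := by decide +kernel
theorem small_lv3 : smallWords Tab.wordsLv3 = true := by decide +kernel
theorem small_lv4 : smallWords Tab.wordsLv4 = true := by decide +kernel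
theorem small_lv5 : smallWords Tab.wordsLv5 = true := by decide +kernel

theorem orbit_six (j : Fin Tab.perm.n) :
    MulAction.orbit (cl Tab.wordsSix) j = {i : Fin Tab.perm.n | Tab.labSix i = Tab.labSix j} :=
  orbit_eq_label perm_ok _ (small small_six) _ _ _ _ _ Tab.orbitSix _ rfl j

theorem orbit_five (j : Fin Tab.perm.n) :
    MulAction.orbit (cl Tab.wordsFive) j = {i : Fin Tab.perm.n | Tab.labFive i = Tab.labFive j} :=
  orbit_eq_label perm_ok _ (small small_five) _ _ _ _ _ Tab.orbitFive _ rfl j

theorem orbit_lv3 (j : Fin Tab.perm.n) :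
    MulAction.orbit (cl Tab.wordsLv3) j = {i : Fin Tab.perm.n | Tab.labLv3 i = Tab.labLv3 j} :=
  orbit_eq_label perm_ok _ (small small_lv3) _ _ _ _ _ Tab.orbitLv3 _ rfl j

theorem orbit_lv4 (j : Fin Tab.perm.n) :
    MulAction.orbit (cl Tab.wordsLv4) j = {i : Fin Tab.perm.n | Tab.labLv4 i = Tab.labLv4 j} :=
  orbit_eq_label perm_ok _ (small small_lv4) _ _ _ _ _ Tab.orbitLv4 _ rfl j

theorem orbit_lv5 (j : Fin Tab.perm.n) :
    MulAction.orbit (cl Tab.wordsLv5) j = {i : Fin Tab.perm.n | Tab.labLv5 i = Tab.labLv5 j} :=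
  orbit_eq_label perm_ok _ (small small_lv5) _ _ _ _ _ Tab.orbitLv5 _ rfl j

theorem count_six0 : countLabel Tab.labSix (Tab.labSix 0) 1782 = 1 := by decide +kernel
theorem count_six1 : countLabel Tab.labSix 1 1782 = 416 := by decide +kernel
theorem count_six2 : countLabel Tab.labSix 2 1782 = 1365 := by decide +kernel
theorem count_five2 : countLabel Tab.labFive 2 1782 = 100 := by decide +kernel
theorem count_five5 : countLabel Tab.labFive 5 1782 = 315 := by decide +kernel
theorem count_lv3_3 : countLabel Tab.labLv3 3 1782 = 63 := by decide +kernel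
theorem count_lv3_9 : countLabel Tab.labLv3 9 1782 = 36 := by decide +kernel
theorem count_lv4 : countLabel Tab.labLv4 4 1782 = 32 := by decide +kernel
theorem count_lv5 : countLabel Tab.labLv5 5 1782 = 3 := by decide +kernel

theorem ncard_orbit_six {j : Fin Tab.perm.n} {c k : ℕ} (hj : Tab.labSix j = c)
    (hk : countLabel Tab.labSix c 1782 = k) : (MulAction.orbit (cl Tab.wordsSix) j).ncard = k := by
  rw [orbit_six, hj, ncard_label]
  exact hk

theorem ncard_orbit_five {j : Fin Tab.perm.n} {c k : ℕ} (hj : Tab.labFive j = c)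
    (hk : countLabel Tab.labFive c 1782 = k) : (MulAction.orbit (cl Tab.wordsFive) j).ncard = k := by
  rw [orbit_five, hj, ncard_label]
  exact hk

theorem ncard_orbit_lv3 {j : Fin Tab.perm.n} {c k : ℕ} (hj : Tab.labLv3 j = c)
    (hk : countLabel Tab.labLv3 c 1782 = k) : (MulAction.orbit (cl Tab.wordsLv3) j).ncard = k := by
  rw [orbit_lv3, hj, ncard_label]
  exact hk

theorem ncard_orbit_lv4 {j : Fin Tab.perm.n} {c k : ℕ} (hj : Tab.labLv4 j = c)
    (hk : countLabel Tab.labLv4 c 1782 = k) : (MulAction.orbit (cl Tab.wordsLv4) j).ncard = k := by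
  rw [orbit_lv4, hj, ncard_label]
  exact hk

theorem ncard_orbit_lv5 {j : Fin Tab.perm.n} {c k : ℕ} (hj : Tab.labLv5 j = c)
    (hk : countLabel Tab.labLv5 c 1782 = k) : (MulAction.orbit (cl Tab.wordsLv5) j).ncard = k := by
  rw [orbit_lv5, hj, ncard_label]
  exact hk

abbrev P0 : Fin Tab.perm.n := pt 0 (by omega)
abbrev P1 : Fin Tab.perm.n := pt 995 (by omega)
abbrev P2 : Fin Tab.perm.n := pt 47 (by omega)
abbrev P3 : Fin Tab.perm.n := pt 72 (by omega)
abbrev P4 : Fin Tab.perm.n := pt 76 (by omega)
abbrev P5 : Fin Tab.perm.n := pt 593 (by omega)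

theorem orbit_top : MulAction.orbit pi.range P0 = Set.univ := by
  refine Set.eq_univ_of_forall fun i => ?_
  obtain ⟨a, ha, hai⟩ := perm_ok.transitive i
  have hmem : a ∈ pi.range := by
    refine (?_ : Subgroup.closure {a | ∃ x < Tab.perm.L, perm_ok.sigma x = a} ≤ pi.range) ha
    rw [Subgroup.closure_le]
    rintro _ ⟨x, hx, rfl⟩
    exact ⟨gen x, pi_gen hx⟩
  exact ⟨⟨a, hmem⟩, hai⟩

theorem le_stab {S : List (List ℕ)} (h : smallWords S = true) (pts : List (Fin Tab.perm.n))
    (hfix : S.all (fun w => pts.all fun p => runT Tab.perm.T Tab.perm.L w p == (p : ℕ)) = true) :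
    cl S ≤ pointStab pi.range pts :=
  closure_words_le_pointStab perm_ok S (small h) _ (gword_mem_range h) pts hfix

theorem six_le : cl Tab.wordsSix ≤ pointStab pi.range [P0] :=
  le_stab small_six _ (by decide +kernel)

theorem five_le : cl Tab.wordsFive ≤ pointStab pi.range [P1, P0] :=
  le_stab small_five _ (by decide +kernel)

theorem lv3_le : cl Tab.wordsLv3 ≤ pointStab pi.range [P2, P1, P0] :=
  le_stab small_lv3 _ (by decide +kernel)

theorem lv4_le : cl Tab.wordsLv4 ≤ pointStab pi.range [P3, P2, P1, P0] :=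
  le_stab small_lv4 _ (by decide +kernel)

theorem lv5_le : cl Tab.wordsLv5 ≤ pointStab pi.range [P4, P3, P2, P1, P0] :=
  le_stab small_lv5 _ (by decide +kernel)

theorem card_range_ge :
    448345497600 * Nat.card (pointStab pi.range [P5, P4, P3, P2, P1, P0]) ≤ Nat.card pi.range := by
  set m := Nat.card (pointStab pi.range [P5, P4, P3, P2, P1, P0])
  have h5 : 3 * m ≤ Nat.card (pointStab pi.range [P4, P3, P2, P1, P0]) := by
    have := card_pointStab_ge (p := P5) lv5_le (le_refl m)
    rwa [ncard_orbit_lv5 (c := 5) (by rw [pt_val]; decide +kernel) count_lv5] at this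
  have h4 : 32 * (3 * m) ≤ Nat.card (pointStab pi.range [P3, P2, P1, P0]) := by
    have := card_pointStab_ge (p := P4) lv4_le h5
    rwa [ncard_orbit_lv4 (c := 4) (by rw [pt_val]; decide +kernel) count_lv4] at this
  have h3 : 63 * (32 * (3 * m)) ≤ Nat.card (pointStab pi.range [P2, P1, P0]) := by
    have := card_pointStab_ge (p := P3) lv3_le h4
    rwa [ncard_orbit_lv3 (c := 3) (by rw [pt_val]; decide +kernel) count_lv3_3] at this
  have h2 : 100 * (63 * (32 * (3 * m))) ≤ Nat.card (pointStab pi.range [P1, P0]) := by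
    have := card_pointStab_ge (p := P2) five_le h3
    rwa [ncard_orbit_five (c := 2) (by rw [pt_val]; decide +kernel) count_five2] at this
  have h1 : 416 * (100 * (63 * (32 * (3 * m)))) ≤ Nat.card (pointStab pi.range [P0]) := by
    have := card_pointStab_ge (p := P1) six_le h2
    rwa [ncard_orbit_six (c := 1) (by rw [pt_val]; decide +kernel) count_six1] at this
  have h0 := card_pointStab_ge (R := pi.range) (pts := []) (p := P0) (K := pi.range) le_rfl h1
  rw [orbit_top, Set.ncard_univ, Nat.card_fin] at h0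
  have h0' : 1782 * (416 * (100 * (63 * (32 * (3 * m))))) ≤ Nat.card pi.range := h0
  calc 448345497600 * m ≤ 1782 * (416 * (100 * (63 * (32 * (3 * m))))) := by omega
    _ ≤ Nat.card pi.range := h0'

theorem finite_suz : Finite Cfsg.Spor.Suz := Nat.finite_of_card_ne_zero card_le.2

theorem card_range_le : Nat.card pi.range ≤ Nat.card Cfsg.Spor.Suz := by
  have := finite_suz
  exact Nat.card_le_card_of_surjective _ pi.rangeRestrict_surjective

theorem card_suz : Nat.card Cfsg.Spor.Suz = 448345497600 := by
  refine le_antisymm card_le.1 ?_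
  have hpos : 0 < Nat.card (pointStab pi.range [P5, P4, P3, P2, P1, P0]) := Nat.card_pos
  calc 448345497600 ≤ 448345497600 * _ := Nat.le_mul_of_pos_right _ hpos
    _ ≤ Nat.card pi.range := card_range_ge
    _ ≤ Nat.card Cfsg.Spor.Suz := card_range_le

theorem pointStab_base : pointStab pi.range [P5, P4, P3, P2, P1, P0] = ⊥ := by
  have h := card_range_ge.trans (card_range_le.trans_eq card_suz)
  have h1 : Nat.card (pointStab pi.range [P5, P4, P3, P2, P1, P0]) ≤ 1 := by omega
  exact Subgroup.eq_bot_of_card_le _ h1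

theorem pi_injective : Function.Injective pi := by
  have := finite_suz
  have hb : Function.Bijective pi.rangeRestrict := by
    refine (Nat.bijective_iff_surjective_and_card _).2 ⟨pi.rangeRestrict_surjective, ?_⟩
    refine le_antisymm ?_ card_range_le
    rw [card_suz]
    have hpos : 0 < Nat.card (pointStab pi.range [P5, P4, P3, P2, P1, P0]) := Nat.card_pos
    exact (Nat.le_mul_of_pos_right _ hpos).trans card_range_ge
  exact fun a b hab => hb.1 (Subtype.ext hab)

theorem card_sub_six_eq : Nat.card (sub 6) = 251596800 := by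
  have hstep : (sub 6).relIndex (sub 7) ≤ 1782 ∧ (sub 6).relIndex (sub 7) ≠ 0 :=
    closure_gl 7 ▸ n_G24 ▸ relIndex_le G24.facts G24.n_pos G24.node_zero G24.rows (sub 6) (gl 7)
      (gl_inv 7) (hyps wordsOK_G24 (by omega) (by omega)).1 (hyps wordsOK_G24 (by omega) (by omega)).2
  rw [sub_seven, Subgroup.relIndex_top_right] at hstep
  have := (sub 6).card_mul_index
  rw [card_suz] at this
  refine le_antisymm card_sub_six.1 ?_
  by_contra hlt
  have := Nat.mul_le_mul (Nat.le_of_lt_succ (Nat.succ_lt_succ (not_le.1 hlt))) hstep.1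
  nlinarith [Nat.pos_of_ne_zero hstep.2]

theorem index_sub_six : (sub 6).index = 1782 := by
  have := (sub 6).card_mul_index
  rw [card_suz, card_sub_six_eq] at this
  omega

end CfsgLib.CosetEnum.Suz
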