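import Cfsg.Agent.CosetEnum.Suz.Order
import Cfsg.Agent.CosetEnum.Primitive

/-!
Simplicity of the presented Suzuki group and of its subgroup on the first six generators.

A nontrivial normal subgroup meets the three stabilizers of the chain Suz, G₂(4), J₂ in transitive
subgroups on 1782, 416 and 100 points, so its order is divisible by 25; hence `ab` is trivial
modulo it, and then the relations kill every generator.
-/

set_option autoImplicit false

namespace CfsgLib.CosetEnum.Suz

theorem finite_sub (m : ℕ) : Finite (sub m) := by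
  have := finite_suz
  infer_instance

theorem card_map_sub (m : ℕ) : Nat.card ((sub m).map pi) = Nat.card (sub m) :=
  (Nat.card_congr (Subgroup.equivMapOfInjective _ _ pi_injective).toEquiv).symm

theorem card_range_eq : Nat.card pi.range = 448345497600 := by
  rw [← card_suz]
  exact (Nat.card_congr (MonoidHom.ofInjective pi_injective).toEquiv).symm

theorem stab_zero : pointStab pi.range [P0] = cl Tab.wordsSix := by
  refine (Subgroup.eq_of_le_of_card_ge six_le ?_).symm
  have h := card_pointStab_eq pi.range [] P0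
  rw [show pointStab pi.range ([] : List (Fin Tab.perm.n)) = pi.range from rfl, orbit_top,
    Set.ncard_univ, Nat.card_fin, card_range_eq] at h
  have h' : 1782 * Nat.card (pointStab pi.range [P0]) = 448345497600 := h
  rw [cl_six, card_map_sub, card_sub_six_eq]
  omega

theorem card_sub_five_eq : Nat.card (sub 5) = 604800 := by
  refine le_antisymm card_sub_five.1 ?_
  have hr : (sub 5).relIndex (sub 6) ≤ 416 ∧ (sub 5).relIndex (sub 6) ≠ 0 :=
    closure_gl 6 ▸ n_J2 ▸ relIndex_le J2.facts J2.n_pos J2.node_zero J2.rows (sub 5) (gl 6)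
      (gl_inv 6) (hyps wordsOK_J2 (by omega) (by omega)).1 (hyps wordsOK_J2 (by omega) (by omega)).2
  have h := Subgroup.relIndex_mul_relIndex ⊥ (sub 5) (sub 6) bot_le (sub_mono (by omega))
  rw [Subgroup.relIndex_bot_left, Subgroup.relIndex_bot_left, card_sub_six_eq] at h
  nlinarith [hr.1]

theorem stab_one : pointStab pi.range [P1, P0] = cl Tab.wordsFive := by
  refine (Subgroup.eq_of_le_of_card_ge five_le ?_).symm
  have h := card_pointStab_eq pi.range [P0] P1
  rw [stab_zero, ncard_orbit_six (c := 1) (by rw [pt_val]; decide +kernel) count_six1, cl_six,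
    card_map_sub, card_sub_six_eq] at h
  rw [cl_five, card_map_sub, card_sub_five_eq]
  omega

/-- the image fixing the six base points is trivial -/
theorem eq_one_of_fix {m : Equiv.Perm (Fin Tab.perm.n)} (hm : m ∈ pi.range)
    (h : ∀ p ∈ [P5, P4, P3, P2, P1, P0], m p = p) : m = 1 := by
  have : m ∈ pointStab pi.range [P5, P4, P3, P2, P1, P0] := mem_pointStab.2 ⟨hm, h⟩
  rwa [pointStab_base, Subgroup.mem_bot] at this

theorem split_six : allBelow (fun i =>
    (Tab.labSix i == 0 && i == 0) || Tab.labSix i == 1 || Tab.labSix i == 2) 1782 = true := by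
  decide +kernel

theorem split_five : allBelow (fun i => !(Tab.labSix i == 1) || i == 995 ||
    Tab.labFive i == 2 || Tab.labFive i == 5) 1782 = true := by
  decide +kernel

theorem split_lv3 : allBelow (fun i => !(Tab.labFive i == 2) || i == 47 ||
    Tab.labLv3 i == 3 || Tab.labLv3 i == 9) 1782 = true := by
  decide +kernel

theorem lab6_P1 : Tab.labSix P1 = 1 := by rw [pt_val]; decide +kernel
theorem lab6_q : Tab.labSix (pt 1 (by omega)) = 2 := by rw [pt_val]; decide +kernel
theorem lab5_P2 : Tab.labFive P2 = 2 := by rw [pt_val]; decide +kernel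
theorem lab5_q : Tab.labFive (pt 81 (by omega)) = 5 := by rw [pt_val]; decide +kernel
theorem lab3_P3 : Tab.labLv3 P3 = 3 := by rw [pt_val]; decide +kernel
theorem lab3_q : Tab.labLv3 (pt 79 (by omega)) = 9 := by rw [pt_val]; decide +kernel

theorem base_in_six : [P5, P4, P3, P2, P1].all (fun p => Tab.labSix p == 1) = true := by
  simp only [List.all_cons, List.all_nil, pt_val]
  decide +kernel

theorem base_in_five : [P5, P4, P3, P2].all (fun p => Tab.labFive p == 2) = true := by
  simp only [List.all_cons, List.all_nil, pt_val]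
  decide +kernel

/-- A nontrivial subgroup normalized by the first stabilizer has order divisible by 100. -/
theorem dvd_of_normalized {M : Subgroup (Equiv.Perm (Fin Tab.perm.n))}
    (hM : M ≤ cl Tab.wordsSix) (hn : Normalizes (cl Tab.wordsSix) M) (hne : M ≠ ⊥) :
    100 ∣ Nat.card M := by
  have h6 : cl Tab.wordsSix ≤ pi.range := stab_zero ▸ fun x hx => (mem_pointStab.1 hx).1
  have hfix0 : ∀ m ∈ M, m P0 = P0 := fun m hm =>
    (mem_pointStab.1 (six_le (hM hm))).2 P0 List.mem_cons_self
  have hK : cl Tab.wordsFive ≤ cl Tab.wordsSix := by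
    rw [cl_five, cl_six]
    exact Subgroup.map_mono (sub_mono (by omega))
  have hKp : ∀ a ∈ cl Tab.wordsFive, a P1 = P1 := fun a ha =>
    (mem_pointStab.1 (five_le ha)).2 P1 List.mem_cons_self
  have hsplit : ∀ x ∈ MulAction.orbit (cl Tab.wordsSix) P1,
      x = P1 ∨ x ∈ MulAction.orbit (cl Tab.wordsFive) P2 ∨
        x ∈ MulAction.orbit (cl Tab.wordsFive) (pt 81 (by omega)) := by
    intro x hx
    rw [orbit_six, Set.mem_ofPred_eq, lab6_P1] at hx
    have := (Model.allBelow_iff _ _).1 split_five x x.2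
    simp only [hx, beq_self_eq_true, Bool.not_true, Bool.false_or, Bool.or_eq_true,
      beq_iff_eq] at this
    rw [orbit_five, orbit_five, Set.mem_ofPred_eq, Set.mem_ofPred_eq, lab5_P2, lab5_q]
    rcases this with (h | h) | h
    · exact Or.inl (Fin.ext h)
    · exact Or.inr (Or.inl h)
    · exact Or.inr (Or.inr h)
  have hp1 : P1 ∉ MulAction.orbit (cl Tab.wordsFive) P2 := by
    rw [orbit_five, Set.mem_ofPred_eq, lab5_P2, pt_val]; decide +kernel
  have hp2 : P1 ∉ MulAction.orbit (cl Tab.wordsFive) (pt 81 (by omega)) := by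
    rw [orbit_five, Set.mem_ofPred_eq, lab5_q, pt_val]; decide +kernel
  have hn1 : (MulAction.orbit (cl Tab.wordsSix) P1).ncard = 416 :=
    ncard_orbit_six lab6_P1 count_six1
  have hs1 := ncard_orbit_five lab5_P2 count_five2
  have hs2 := ncard_orbit_five lab5_q count_five5
  have htr : MulAction.orbit M P1 = MulAction.orbit (cl Tab.wordsSix) P1 := by
    refine (fixes_or_transitive hn hK hKp _ _ _ _ _ hsplit hn1 hs1 hs2 (by norm_num) (by norm_num)
      hp1 hp2 hM).resolve_left fun h => hne (eq_bot_iff.2 fun m hm => ?_)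
    refine Subgroup.mem_bot.2 (eq_one_of_fix (h6 (hM hm)) fun p hp => ?_)
    rcases List.mem_append.1 (show p ∈ [P5, P4, P3, P2, P1] ++ [P0] from hp) with hp | hp
    · refine h m hm p ?_
      rw [orbit_six, Set.mem_ofPred_eq, lab6_P1]
      exact beq_iff_eq.1 (List.all_eq_true.1 base_in_six p hp)
    · rw [List.mem_singleton.1 hp]; exact hfix0 m hm
  have : Fact (Nat.Prime 13) := ⟨by norm_num⟩
  have hne2 : M ⊓ MulAction.stabilizer _ P1 ≠ ⊥ :=
    not_regular hn hK hKp _ _ _ _ _ hsplit hn1 hs1 hs2 (by norm_num) (by norm_num) hp1 hp2 hM htr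
      13 32 (by norm_num) (by norm_num) (by norm_num) (by decide)
  set M2 := M ⊓ MulAction.stabilizer (Equiv.Perm (Fin Tab.perm.n)) P1
  have hM2 : M2 ≤ cl Tab.wordsFive := by
    intro m hm
    rw [← stab_one]
    exact ⟨six_le (hM (Subgroup.mem_inf.1 hm).1), (Subgroup.mem_inf.1 hm).2⟩
  have hn2 : Normalizes (cl Tab.wordsFive) M2 := by
    intro a ha m hm
    refine Subgroup.mem_inf.2 ⟨hn a (hK ha) m (Subgroup.mem_inf.1 hm).1, ?_⟩
    rw [MulAction.mem_stabilizer_iff, Equiv.Perm.smul_def, Equiv.Perm.mul_apply,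
      Equiv.Perm.mul_apply]
    have h1 : a⁻¹ P1 = P1 := hKp a⁻¹ (inv_mem ha)
    have h2 : m P1 = P1 := (Subgroup.mem_inf.1 hm).2
    rw [h1, h2, hKp a ha]
  have hL : cl Tab.wordsLv3 ≤ cl Tab.wordsFive :=
    stab_one ▸ fun a ha => (Subgroup.mem_inf.1 (lv3_le ha)).1
  have hLp : ∀ a ∈ cl Tab.wordsLv3, a P2 = P2 := fun a ha =>
    (mem_pointStab.1 (lv3_le ha)).2 P2 List.mem_cons_self
  have hsplit2 : ∀ x ∈ MulAction.orbit (cl Tab.wordsFive) P2,
      x = P2 ∨ x ∈ MulAction.orbit (cl Tab.wordsLv3) P3 ∨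
        x ∈ MulAction.orbit (cl Tab.wordsLv3) (pt 79 (by omega)) := by
    intro x hx
    rw [orbit_five, Set.mem_ofPred_eq, lab5_P2] at hx
    have := (Model.allBelow_iff _ _).1 split_lv3 x x.2
    simp only [hx, beq_self_eq_true, Bool.not_true, Bool.false_or, Bool.or_eq_true,
      beq_iff_eq] at this
    rw [orbit_lv3, orbit_lv3, Set.mem_ofPred_eq, Set.mem_ofPred_eq, lab3_P3, lab3_q]
    rcases this with (h | h) | h
    · exact Or.inl (Fin.ext h)
    · exact Or.inr (Or.inl h)
    · exact Or.inr (Or.inr h)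
  have hp1' : P2 ∉ MulAction.orbit (cl Tab.wordsLv3) P3 := by
    rw [orbit_lv3, Set.mem_ofPred_eq, lab3_P3, pt_val]; decide +kernel
  have hp2' : P2 ∉ MulAction.orbit (cl Tab.wordsLv3) (pt 79 (by omega)) := by
    rw [orbit_lv3, Set.mem_ofPred_eq, lab3_q, pt_val]; decide +kernel
  have hn1' := ncard_orbit_five lab5_P2 count_five2
  have htr2 : MulAction.orbit M2 P2 = MulAction.orbit (cl Tab.wordsFive) P2 := by
    refine (fixes_or_transitive hn2 hL hLp _ _ _ _ _ hsplit2 hn1'
      (ncard_orbit_lv3 lab3_P3 count_lv3_3) (ncard_orbit_lv3 lab3_q count_lv3_9)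
      (by norm_num) (by norm_num) hp1' hp2' hM2).resolve_left fun h => hne2 (eq_bot_iff.2
        fun m hm => ?_)
    refine Subgroup.mem_bot.2 (eq_one_of_fix (h6 (hM (Subgroup.mem_inf.1 hm).1)) fun p hp => ?_)
    rcases List.mem_append.1 (show p ∈ [P5, P4, P3, P2] ++ [P1, P0] from hp) with hp | hp
    · refine h m hm p ?_
      rw [orbit_five, Set.mem_ofPred_eq, lab5_P2]
      exact beq_iff_eq.1 (List.all_eq_true.1 base_in_five p hp)
    · rcases List.mem_cons.1 hp with rfl | hp
      · exact (Subgroup.mem_inf.1 hm).2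
      · rw [List.mem_singleton.1 hp]; exact hfix0 m (Subgroup.mem_inf.1 hm).1
  have hd := ncard_orbit_dvd M2 P2
  rw [htr2, hn1'] at hd
  exact hd.trans (Subgroup.card_dvd_of_le inf_le_left)

/-- A nontrivial normal subgroup of the image has order divisible by 100. -/
theorem dvd_of_normal {M : Subgroup (Equiv.Perm (Fin Tab.perm.n))} (hM : M ≤ pi.range)
    (hn : Normalizes pi.range M) (hne : M ≠ ⊥) : 100 ∣ Nat.card M := by
  have hK : cl Tab.wordsSix ≤ pi.range := stab_zero ▸ fun x hx => (mem_pointStab.1 hx).1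
  have hKp : ∀ a ∈ cl Tab.wordsSix, a P0 = P0 := fun a ha =>
    (mem_pointStab.1 (six_le ha)).2 P0 List.mem_cons_self
  have hsplit : ∀ x ∈ MulAction.orbit pi.range P0,
      x = P0 ∨ x ∈ MulAction.orbit (cl Tab.wordsSix) P1 ∨
        x ∈ MulAction.orbit (cl Tab.wordsSix) (pt 1 (by omega)) := by
    intro x _
    have := (Model.allBelow_iff _ _).1 split_six x x.2
    simp only [Bool.and_eq_true, Bool.or_eq_true, beq_iff_eq] at this
    rw [orbit_six, orbit_six, Set.mem_ofPred_eq, Set.mem_ofPred_eq, lab6_P1, lab6_q]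
    rcases this with (⟨_, h⟩ | h) | h
    · exact Or.inl (Fin.ext h)
    · exact Or.inr (Or.inl h)
    · exact Or.inr (Or.inr h)
  have hp1 : P0 ∉ MulAction.orbit (cl Tab.wordsSix) P1 := by
    rw [orbit_six, Set.mem_ofPred_eq, lab6_P1, pt_val]; decide +kernel
  have hp2 : P0 ∉ MulAction.orbit (cl Tab.wordsSix) (pt 1 (by omega)) := by
    rw [orbit_six, Set.mem_ofPred_eq, lab6_q, pt_val]; decide +kernel
  have hn1 : (MulAction.orbit pi.range P0).ncard = 1782 := by
    rw [orbit_top, Set.ncard_univ, Nat.card_fin]; rfl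
  have hs1 := ncard_orbit_six lab6_P1 count_six1
  have hs2 := ncard_orbit_six lab6_q count_six2
  have htr : MulAction.orbit M P0 = MulAction.orbit pi.range P0 := by
    refine (fixes_or_transitive hn hK hKp _ _ _ _ _ hsplit hn1 hs1 hs2 (by norm_num) (by norm_num)
      hp1 hp2 hM).resolve_left fun h => hne (eq_bot_iff.2 fun m hm => Subgroup.mem_bot.2 ?_)
    ext x
    rw [h m hm x (by rw [orbit_top]; trivial)]
    rfl
  have : Fact (Nat.Prime 11) := ⟨by norm_num⟩
  have hne1 := not_regular hn hK hKp _ _ _ _ _ hsplit hn1 hs1 hs2 (by norm_num) (by norm_num)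
    hp1 hp2 hM htr 11 162 (by norm_num) (by norm_num) (by norm_num) (by decide +kernel)
  refine (dvd_of_normalized ?_ ?_ hne1).trans (Subgroup.card_dvd_of_le inf_le_left)
  · intro m hm
    rw [← stab_zero]
    exact ⟨hM (Subgroup.mem_inf.1 hm).1, (Subgroup.mem_inf.1 hm).2⟩
  · intro a ha m hm
    refine Subgroup.mem_inf.2 ⟨hn a (hK ha) m (Subgroup.mem_inf.1 hm).1, ?_⟩
    rw [MulAction.mem_stabilizer_iff, Equiv.Perm.smul_def, Equiv.Perm.mul_apply,
      Equiv.Perm.mul_apply]
    have h1 : a⁻¹ P0 = P0 := hKp a⁻¹ (inv_mem ha)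
    have h2 : m P0 = P0 := (Subgroup.mem_inf.1 hm).2
    rw [h1, h2, hKp a ha]

theorem relWord_eq {w : List ℕ} (hw : Tab.relWords.contains w = true) :
    gword (gl 7) w = 1 :=
  gword_relWords w (by rwa [List.contains_iff_mem] at hw)

/-- If `a` and `b` have the same image in a finite quotient, all generators die there. -/
theorem gens_trivial {Q : Type*} [Group Q] {m : ℕ} (v : ℕ → Q)
    (hv : ∀ w ∈ Tab.relWords, (∀ x ∈ w, x < m) → gword v w = 1) (hm : 6 ≤ m) (hm' : m ≤ 7)
    (hab : v 0 = v 1) : ∀ x < m, v x = 1 := by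
  have rel : ∀ w, Tab.relWords.contains w = true → (w.all fun x => x.blt m) = true →
      gword v w = 1 := fun w h1 h2 =>
    hv w (by rwa [List.contains_iff_mem] at h1) fun x hx => by
      have := List.all_eq_true.1 h2 x hx
      simp only [Nat.blt, Nat.ble_eq] at this
      exact this
  have rel6 : ∀ w, Tab.relWords.contains w = true → (w.all fun x => x.blt 6) = true →
      gword v w = 1 := fun w h1 h2 => rel w h1 (List.all_eq_true.2 fun x hx => by
      have := List.all_eq_true.1 h2 x hx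
      simp only [Nat.blt, Nat.ble_eq] at this ⊢
      omega)
  have sq : ∀ x < 6, v x * v x = 1 := fun x hx => by
    simpa [gword] using rel6 [x, x] (by interval_cases x <;> decide) (by interval_cases x <;> decide)
  have comm : v 0 * v 2 * v 0 * v 2 = 1 := by
    simpa [gword, mul_assoc] using rel6 [0, 2, 0, 2] (by decide) (by decide)
  have bc : v 1 * v 2 * v 1 * v 2 * v 1 * v 2 = 1 := by
    simpa [gword, mul_assoc] using rel6 [1, 2, 1, 2, 1, 2] (by decide) (by decide)
  have had : v 0 * v 3 * v 0 * v 3 = 1 := by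
    simpa [gword, mul_assoc] using rel6 [0, 3, 0, 3] (by decide) (by decide)
  have h02 : v 0 * v 2 = 1 := by
    rw [← hab] at bc
    have := comm
    calc v 0 * v 2 = (v 0 * v 2 * v 0 * v 2) * (v 0 * v 2) := by rw [this, one_mul]
      _ = v 0 * v 2 * v 0 * v 2 * v 0 * v 2 := by simp [mul_assoc]
      _ = 1 := bc
  have c0 : v 2 = v 0 := by
    have := congrArg (fun z => v 0 * z) h02
    simpa [← mul_assoc, sq 0 (by omega)] using this
  have a1 : v 0 = 1 := by
    have h := rel6 [0, 3, 2, 3, 2, 3, 2, 3, 2] (by decide) (by decide)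
    simp only [gword, List.map_cons, List.map_nil, List.prod_cons, List.prod_nil, mul_one, c0] at h
    have h30 : v 3 * v 0 = v 0 * v 3 := by
      calc v 3 * v 0 = (v 0 * v 3 * v 0 * v 3) * (v 3 * v 0) := by rw [had, one_mul]
        _ = v 0 * v 3 * v 0 * (v 3 * v 3) * v 0 := by simp [mul_assoc]
        _ = v 0 * v 3 * (v 0 * v 0) := by rw [sq 3 (by omega)]; simp [mul_assoc]
        _ = v 0 * v 3 := by rw [sq 0 (by omega), mul_one]
    have h4 : v 3 * (v 0 * (v 3 * v 0)) = 1 := by
      rw [h30, ← mul_assoc, ← mul_assoc, mul_assoc (v 3), sq 0 (by omega), mul_one, sq 3 (by omega)]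
    calc v 0 = v 0 * (v 3 * (v 0 * (v 3 * v 0)) * (v 3 * (v 0 * (v 3 * v 0)))) := by
          rw [h4, one_mul, mul_one]
      _ = 1 := by simpa [mul_assoc] using h
  have b1 : v 1 = 1 := hab ▸ a1
  have c1 : v 2 = 1 := c0.trans a1
  have e1 : v 4 = 1 := by
    have h := rel6 ([1, 2, 3, 2, 3, 1, 2, 3, 2, 3, 1, 2, 3, 2, 3, 1, 2, 3, 2, 3, 1, 2, 3, 2, 3, 4,
      1, 2, 3, 2, 3, 1, 2, 3, 2, 3, 1, 2, 3, 2, 3, 1, 2, 3, 2, 3, 1, 2, 3, 2, 3, 4,
      1, 2, 3, 2, 3, 1, 2, 3, 2, 3, 1, 2, 3, 2, 3, 1, 2, 3, 2, 3, 1, 2, 3, 2, 3, 4])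
      (by decide) (by decide)
    simp only [gword, List.map_cons, List.map_nil, List.prod_cons, List.prod_nil, mul_one, one_mul,
      b1, c1, ← mul_assoc, sq 3 (by omega)] at h
    simpa [sq 4 (by omega)] using h
  have d1 : v 3 = 1 := by
    have h := rel6 [3, 4, 3, 4, 3, 4] (by decide) (by decide)
    simpa [gword, e1, sq 3 (by omega)] using h
  have f1 : v 5 = 1 := by
    have h := rel6 [1, 5, 1, 5, 1, 5] (by decide) (by decide)
    simpa [gword, b1, sq 5 (by omega)] using h
  intro x hx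
  have hx7 : x < 7 := lt_of_lt_of_le hx hm'
  interval_cases x
  all_goals first | assumption | skip
  have hsq : v 6 * v 6 = 1 := by
    simpa [gword] using rel [6, 6] (by decide) (by simp only [List.all_cons, List.all_nil,
      Nat.blt, Bool.and_true, Bool.and_eq_true, Nat.ble_eq]; omega)
  have h := rel [1, 6, 1, 6, 1, 6] (by decide) (by simp only [List.all_cons, List.all_nil,
      Nat.blt, Bool.and_true, Bool.and_eq_true, Nat.ble_eq]; omega)
  simpa [gword, b1, hsq] using h

/-- `ab` dies in a finite image whose order is prime to 5. -/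
theorem ab_trivial {Q : Type*} [Group Q] [Finite Q] (v : ℕ → Q) (h5 : ¬ 5 ∣ Nat.card Q)
    (hsq : v 1 * v 1 = 1) (hab : gword v [0, 1, 0, 1, 0, 1, 0, 1, 0, 1] = 1) : v 0 = v 1 := by
  have h : (v 0 * v 1) ^ 5 = 1 := by
    simpa [gword, pow_succ, mul_assoc] using hab
  have hord : orderOf (v 0 * v 1) = 1 := by
    rcases (Nat.dvd_prime (by norm_num)).1 (orderOf_dvd_of_pow_eq_one h) with h1 | h1
    · exact h1
    · exact absurd (h1 ▸ orderOf_dvd_natCard _) h5
  rw [orderOf_eq_one_iff] at hord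
  calc v 0 = v 0 * v 1 * v 1 := by rw [mul_assoc, hsq, mul_one]
    _ = v 1 := by rw [hord, one_mul]

theorem simple : IsSimpleGroup Cfsg.Spor.Suz := by
  have := finite_suz
  have hnt : Nontrivial Cfsg.Spor.Suz := by
    rw [← Finite.one_lt_card_iff_nontrivial, card_suz]; norm_num
  refine { eq_bot_or_eq_top_of_normal := fun N hN => ?_ }
  by_cases hne : N = ⊥
  · exact Or.inl hne
  refine Or.inr ?_
  have hd : 100 ∣ Nat.card (N.map pi) := by
    refine dvd_of_normal (Subgroup.map_le_range pi N) ?_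
      ((Subgroup.map_eq_bot_iff_of_injective _ pi_injective).not.2 hne)
    rintro _ ⟨a, rfl⟩ _ ⟨k, hk, rfl⟩
    exact ⟨a * k * a⁻¹, hN.conj_mem k hk a, by simp⟩
  rw [← Nat.card_congr (Subgroup.equivMapOfInjective N pi pi_injective).toEquiv] at hd
  have hprod := N.card_mul_index
  rw [card_suz] at hprod
  have h5 : ¬ 5 ∣ Nat.card (Cfsg.Spor.Suz ⧸ N) := by
    rintro ⟨d, hd5⟩
    obtain ⟨c, hc⟩ := hd
    rw [hc, Subgroup.index, hd5] at hprod
    have : 500 * (c * d) = 448345497600 := by linarith [hprod]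
    omega
  let v : ℕ → Cfsg.Spor.Suz ⧸ N := fun x => QuotientGroup.mk' N (gen x)
  have hv : ∀ w ∈ Tab.relWords, (∀ x ∈ w, x < 7) → gword v w = 1 := by
    intro w hw hx
    rw [← map_one (QuotientGroup.mk' N), ← gword_relWords w hw, gl, gword_letterVal gen hx, gword_map]
  have hab := ab_trivial v h5 (by rw [← map_mul, gen_sq, map_one])
    (hv _ (List.contains_iff_mem.1 (by decide)) (by decide))
  have hall := gens_trivial v hv (by omega) (le_refl 7) hab
  rw [eq_top_iff, ← sub_seven, sub, Subgroup.closure_le]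
  rintro _ ⟨x, hx, rfl⟩
  exact (QuotientGroup.eq_one_iff _).1 (hall x hx)

end CfsgLib.CosetEnum.Suz
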